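import Cfsg.Agent.LG.Mod1
import Cfsg.Agent.LG.Maps
import Cfsg.Agent.S2180

set_option autoImplicit false

namespace Cfsg.Agent.LG

open Subgroup H29
open scoped commutatorElement Pointwise

theorem m2_n7 (t : F) : na * xr 7 t * na⁻¹ = xr 4 t := na_xr 7 t
theorem m2_hx7 (t : F) : h2 * xr 7 t * h2⁻¹ = xr 7 (ω * t) := h2_xr 7 t
theorem m2_hh11 (t : F) : hh * xr 11 t * hh⁻¹ = xr 11 (ω * ω * t) := hh_xr 11 t
theorem m2_hh7 (t : F) : hh * xr 7 t * hh⁻¹ = xr 7 (1 * t) := hh_xr 7 t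

theorem cz_ind (H : Subgroup P) (hT : ∀ v c, tt v c ∈ H) (h7 : ∀ t, xr 7 t ∈ H) (hn : na ∈ H) : Cz ≤ H := by
  have key : ∀ (r : Fin 12) (t : F), (r = 4 ∨ 6 ≤ r.val) → xr r t ∈ H := by
    intro r t hr
    have k : ∀ r : Fin 12, (r = 4 ∨ 6 ≤ r.val) → r = 4 ∨ r = 6 ∨ r = 7 ∨ r = 8 ∨ r = 9 ∨ r = 10 ∨ r = 11 := by
      decide
    rcases k r hr with rfl | rfl | rfl | rfl | rfl | rfl | rfl
    · exact m2_n7 t ▸ mul_mem (mul_mem hn (h7 t)) (inv_mem hn)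
    exacts [tt_6 t ▸ hT _ _, h7 t, tt_8 t ▸ hT _ _, tt_9 t ▸ hT _ _, tt_10 t ▸ hT _ _, tt_Z t ▸ hT _ _]
  intro p hp
  have : CharP F 2 := CharTwo.of_one_ne_zero_of_two_eq_zero (by decide) (by decide)
  have h := (S2180.result (F := F) (by decide) (xr 11 1).1 (xr 9 1).1 rfl rfl).1
  have m : p.1 ∈ Lie.chevG2.group F ⊓ centralizer {(xr 11 1).1} :=
    ⟨p.2, mem_centralizer_singleton_iff.2 (congrArg Subtype.val (mem_centralizer_singleton_iff.1 hp))⟩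
  rw [h] at m
  have le : Lie.chevG2.posUnipotent F ⊔ Lie.chevG2.rootSubgroup F 4 ≤ H.map (Lie.chevG2.group F).subtype := by
    refine sup_le ((closure_le _).2 ?_) ((closure_le _).2 ?_)
    · rintro g ⟨r, t, hr, e⟩
      have k : ∀ r < 12, Lie.chevG2.IsPosRoot r → 6 ≤ r := by decide +kernel
      have h12 : r < 12 := hr.1
      exact ⟨xr ⟨r, h12⟩ t, key _ t (Or.inr (k r h12 hr)), Units.ext e.symm⟩
    · rintro g ⟨t, e⟩
      exact ⟨xr 4 t, key _ t (Or.inl rfl), Units.ext e.symm⟩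
  obtain ⟨q, hq, e⟩ := le m
  exact (Subtype.ext e : q = p) ▸ hq

theorem m2_h7 (i : ℕ) (t : F) : h2 ^ i * xr 7 t = xr 7 (ω ^ i * t) * h2 ^ i := by
  induction i with
  | zero => simp
  | succ i ih =>
    have := mul_inv_eq_iff_eq_mul.1 (m2_hx7 (ω ^ i * t))
    rw [pow_succ', mul_assoc, ih, ← mul_assoc, this, pow_succ' ω, mul_assoc, mul_assoc]

theorem m2_7h (i : ℕ) (t : F) : xr 7 t * h2 ^ i = h2 ^ i * xr 7 ((ω ^ i)⁻¹ * t) := by
  rw [m2_h7, mul_inv_cancel_left₀ (pow_ne_zero _ (by decide))]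

theorem m2_h3 : h2 ^ 3 = 1 := by rw [← h2_cube, pow_succ, pow_two]

theorem m2_nh (i : ℕ) : na * h2 ^ i = h2 ^ (2 * i) * na := by
  have e : h2⁻¹ = h2 ^ 2 := by rw [inv_eq_iff_mul_eq_one, ← pow_succ', m2_h3]
  rw [← mul_inv_eq_iff_eq_mul, ← conj_pow, na_h2, e, pow_mul]

theorem cz_nf {p : P} (h : p ∈ Cz) : ∃ (v : V4) (c t : F) (i : ℕ), p = tt v c * xr 7 t * h2 ^ i ∨
    ∃ s, p = tt v c * xr 7 t * h2 ^ i * na * xr 7 s := by
  let S : Set P := {p | ∃ (v : V4) (c t : F) (i : ℕ), p = tt v c * xr 7 t * h2 ^ i ∨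
    ∃ s, p = tt v c * xr 7 t * h2 ^ i * na * xr 7 s}
  have key : ∀ g : P, (∀ p ∈ S, g * p ∈ S) → g ∈ MulAction.stabilizer P S := fun g hg =>
    (MulAction.mem_stabilizer_set_iff_smul_set_subset (Set.toFinite _)).2 (by
      rintro _ ⟨p, hp, rfl⟩; exact hg p hp)
  have le := cz_ind (MulAction.stabilizer P S) (fun w d => key _ ?_) (fun u => key _ ?_) (key _ ?_) h
  · have : p • (1 : P) ∈ p • S := Set.smul_mem_smul_set ⟨0, 0, 0, 0, Or.inl (by simp [tt_zero, xr_zero])⟩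
    rw [MulAction.mem_stabilizer_iff.1 le, smul_eq_mul, mul_one] at this
    exact this
  · rintro _ ⟨v, c, t, i, rfl | ⟨s, rfl⟩⟩
    · exact ⟨_, _, t, i, Or.inl (by rw [← tt_mul w v d c]; group)⟩
    · exact ⟨_, _, t, i, Or.inr ⟨s, by rw [← tt_mul w v d c]; group⟩⟩
  · rintro _ ⟨v, c, t, i, rfl | ⟨s, rfl⟩⟩
    · exact ⟨_, _, u + t, i, Or.inl (by rw [← x7_tt u v c, xr_add]; group)⟩
    · exact ⟨_, _, u + t, i, Or.inr ⟨s, by rw [← x7_tt u v c, xr_add]; group⟩⟩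
  · rintro _ ⟨v, c, t, i, rfl | ⟨s, rfl⟩⟩
    · refine ⟨sw v, c + q4 v, 0, 2 * i, Or.inr ⟨(ω ^ i)⁻¹ * t, ?_⟩⟩
      rw [← na_tt v c, xr_zero, mul_one, mul_assoc _ (h2 ^ _), ← m2_nh, mul_assoc (tt v c), m2_7h]
      group
    · have e : na * (tt v c * xr 7 t * h2 ^ i * na * xr 7 s) =
          tt (sw v) (c + q4 v) * (xr 4 t * h2 ^ (2 * i) * xr 7 s) := by
        have e1 : h2 ^ (2 * i) = na * h2 ^ i * na := by rw [m2_nh, mul_assoc, na_sq, mul_one]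
        rw [← na_tt v c, ← m2_n7 t, e1]; group
      rw [e]
      by_cases ht : t = 0
      · exact ⟨_, _, _, 2 * i, Or.inl (by rw [ht, xr_zero, one_mul, m2_h7, mul_assoc])⟩
      · obtain ⟨j, hj⟩ := x4_eq ht
        refine ⟨sw v, c + q4 v, t * t, j + 2 * (2 * i), Or.inr ⟨(ω ^ (2 * i))⁻¹ * (t * t) + s, ?_⟩⟩
        rw [hj, mul_assoc _ (xr 7 (t * t)) (h2 ^ (2 * i)), m2_7h (2 * i), xr_add, pow_add, mul_assoc _ (h2 ^ j * _) na,
          mul_assoc (h2 ^ j), ← m2_nh]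
        group

theorem Cz_Z {p : P} (h : p ∈ Cz) (c : F) : Commute p (xr 11 c) := by
  refine mem_centralizer_singleton_iff.1 (cz_ind (centralizer {xr 11 c}) (fun v d => ?_) (fun t => ?_) ?_ h) <;>
    rw [mem_centralizer_singleton_iff, ← mul_inv_eq_iff_eq_mul]
  · rw [← tt_Z, tt_conj]; simp [b4]
  · rw [← tt_Z, x7_tt]
    congr 1
    · exact (by decide : ∀ t : F, ra t 0 = 0) t
    · simp [ka]
  · exact na_xr 11 c

theorem mem_Cz {p : P} {c : F} (hc : c ≠ 0) (h : Commute p (xr 11 c)) : p ∈ Cz := by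
  have k1 : ∀ (p : P) (c : F), Commute p (xr 11 (ω * ω * c)) ↔ Commute (hh⁻¹ * p * hh) (xr 11 c) := by
    intro p c
    rw [← m2_hh11 c]
    refine ⟨fun h => ?_, fun h => ?_⟩
    · simpa [mul_assoc] using h.conj hh⁻¹
    · simpa [mul_assoc] using h.conj hh
  have k2 : ∀ p : P, Commute p (xr 11 1) → ∀ c, Commute p (xr 11 c) := fun p h =>
    Cz_Z (mem_centralizer_singleton_iff.2 h)
  refine mem_centralizer_singleton_iff.2 ?_
  obtain rfl | rfl | rfl : c = 1 ∨ c = ω * ω * 1 ∨ c = ω * ω * (ω * ω * 1) := by clear h; revert c; decide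
  · exact h
  · exact (k1 p ω).2 (k2 _ ((k1 _ _).1 h) _)
  · exact (k1 p ω).2 ((k1 _ (ω * ω)).2 (k2 _ ((k1 _ _).1 ((k1 _ _).1 h)) _))

theorem tt_Cz (v : V4) (c : F) : tt v c ∈ Cz := by
  rw [Cz, mem_centralizer_singleton_iff, ← mul_inv_eq_iff_eq_mul, ← tt_Z, tt_conj]; simp [b4]

theorem x7_Cz (t : F) : xr 7 t ∈ Cz := by
  rw [Cz, mem_centralizer_singleton_iff, ← mul_inv_eq_iff_eq_mul, ← tt_Z, x7_tt]
  congr 1
  · exact (by decide : ∀ t : F, ra t 0 = 0) t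
  · simp [ka]

theorem uu_Cz (t : F) (v : V4) (c : F) : uu t v c ∈ Cz := mul_mem (x7_Cz t) (tt_Cz v c)

theorem na_Cz : na ∈ Cz := mem_centralizer_singleton_iff.2 (mul_inv_eq_iff_eq_mul.1 (na_xr 11 1))

theorem h2_Cz : h2 ∈ Cz := mem_centralizer_singleton_iff.2 (mul_inv_eq_iff_eq_mul.1 (h2_xr 11 1))

theorem hh_Cz {p : P} (h : p ∈ Cz) : hh * p * hh⁻¹ ∈ Cz :=
  mem_Cz (c := ω * ω * 1) (by decide) (m2_hh11 1 ▸ (Cz_Z h 1).conj hh)

theorem hh_mod {p : P} (h : p ∈ Cz) : InT (hh * p * hh⁻¹ * p⁻¹) := by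
  have c7 : ∀ t, Commute hh (xr 7 t) := fun t =>
    mul_inv_eq_iff_eq_mul.1 ((m2_hh7 t).trans (by rw [one_mul]))
  have key : ∀ v c g, Commute hh g → InT (hh * (tt v c * g) * hh⁻¹ * (tt v c * g)⁻¹) := fun v c g e => by
    refine ⟨_, _, Eq.trans ?_ (tt_mul (ω • v) v (ω * ω * c) (c + q4 v))⟩
    rw [← hh_tt, ← tt_inv]
    calc _ = hh * tt v c * hh⁻¹ * (hh * g * hh⁻¹ * g⁻¹) * (tt v c)⁻¹ := by group
      _ = _ := by rw [e.eq]; group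
  obtain ⟨v, c, t, i, rfl | ⟨s, rfl⟩⟩ := cz_nf h
  · simpa only [mul_assoc] using key v c _ ((c7 t).mul_right (hh_h2.pow_right i))
  · simpa only [mul_assoc] using
      key v c _ ((((c7 t).mul_right (hh_h2.pow_right i)).mul_right hh_na).mul_right (c7 s))

theorem fr_Cz {p : P} (h : p ∈ Cz) : fr p ∈ Cz := by
  have := congrArg fr (mem_centralizer_singleton_iff.1 h)
  rw [map_mul, map_mul, fr_xr, mul_one] at this
  exact mem_centralizer_singleton_iff.2 this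

/-- `p` acts as `f` on `T / Z` -/
def M2A (p : P) (f : V4 → V4) : Prop := ∀ v c, ∃ c', p * tt v c * p⁻¹ = tt (f v) c'

theorem M2A.mul {p q : P} {f g : V4 → V4} (h : M2A p f) (k : M2A q g) : M2A (p * q) fun v => f (g v) :=
  fun v c => by
    obtain ⟨c1, e1⟩ := k v c
    obtain ⟨c2, e2⟩ := h (g v) c1
    exact ⟨c2, by rw [← e2, ← e1]; group⟩

theorem M2A.pow {p : P} {f : V4 → V4} (h : M2A p f) (n : ℕ) : M2A (p ^ n) f^[n] := by
  induction n with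
  | zero => exact fun v c => ⟨c, by simp⟩
  | succ n ih => rw [pow_succ]; exact ih.mul h

theorem m2a_tt (w : V4) (d : F) : M2A (tt w d) fun v => v := fun _ _ => ⟨_, tt_conj _ _ _ _⟩
theorem m2a_7 (t : F) : M2A (xr 7 t) (ra t) := fun _ _ => ⟨_, x7_tt _ _ _⟩
theorem m2a_na : M2A na sw := fun _ _ => ⟨_, na_tt _ _⟩
theorem m2a_h2 : M2A h2 rh := fun _ _ => ⟨_, h2_tt _ _⟩
theorem M2A.eq {f : V4 → V4} (h : M2A 1 f) (v : V4) : f v = v := by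
  obtain ⟨c, e⟩ := h v 0
  rw [one_mul, inv_one, mul_one] at e
  exact (tt_inj e).1.symm
theorem M2A.fix {p : P} {f : V4 → V4} (h : M2A p f) {v : V4} {c c' : F} (e : p * tt v c * p⁻¹ = tt v c') :
    f v = v := by
  obtain ⟨d, e'⟩ := h v c
  exact (tt_inj (e'.symm.trans e)).1

theorem cz_act {p : P} (h : p ∈ Cz) : ∃ π, Evn π ∧ Fx3 π ∧
    ∀ v c, ∃ c', p * tt v c * p⁻¹ = tt (pm π (v, 0, 0)).1 c' := by
  let A : P → Prop := fun p => ∃ π, Evn π ∧ Fx3 π ∧ M2A p fun v => (pm π (v, 0, 0)).1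
  have mul : ∀ {p q}, A p → A q → A (p * q) := by
    rintro p q ⟨π, e, f, a⟩ ⟨κ, e', f', a'⟩
    refine ⟨π * κ, e.mul e', ⟨?_, ?_, ?_⟩, ?_⟩
    · rw [Equiv.Perm.mul_apply, f'.1, f.1]
    · rw [Equiv.Perm.mul_apply, f'.2.1, f.2.1]
    · rw [Equiv.Perm.mul_apply, f'.2.2, f.2.2]
    · intro v c
      simp only [pm_mul]
      rw [pm_Fx3 f']
      exact a.mul a' v c
  have a1 : ∀ v c, A (tt v c) := fun v c => ⟨1, Evn.one, ⟨rfl, rfl, rfl⟩, by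
    simpa only [pm_one] using m2a_tt v c⟩
  have a7 : ∀ t, A (xr 7 t) := fun t => ⟨pA t, evn_all.1 t, fx3_all.1 t, by
    simpa only [pm_pA, up] using m2a_7 t⟩
  have an : A na := ⟨pW, evn_all.2.2.1, fx3_all.2.1, by simpa only [pm_pW, up] using m2a_na⟩
  have ah : ∀ i : ℕ, A (h2 ^ i) := fun i => by
    induction i with
    | zero => rw [pow_zero, ← tt_zero]; exact a1 _ _
    | succ i ih =>
      rw [pow_succ]
      exact mul ih ⟨pH, evn_all.2.2.2.1, fx3_all.2.2, by simpa only [pm_pH, up] using m2a_h2⟩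
  obtain ⟨v, c, t, i, rfl | ⟨s, rfl⟩⟩ := cz_nf h
  · exact mul (mul (a1 v c) (a7 t)) (ah i)
  · exact mul (mul (mul (mul (a1 v c) (a7 t)) (ah i)) an) (a7 s)

/-- the sixty elements of the complement -/
abbrev M2I : Type := F × Fin 3 × Option F

noncomputable def m2w : M2I → P
  | (t, i, none) => xr 7 t * h2 ^ i.val
  | (t, i, some s) => xr 7 t * h2 ^ i.val * na * xr 7 s

def m2f : M2I → V4 → V4
  | (t, i, none) => fun v => ra t (rh^[i.val] v)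
  | (t, i, some s) => fun v => ra t (rh^[i.val] (sw (ra s v)))

theorem m2a_w : ∀ a, M2A (m2w a) (m2f a)
  | (t, i, none) => (m2a_7 t).mul (m2a_h2.pow i)
  | (t, i, some s) => (((m2a_7 t).mul (m2a_h2.pow i)).mul m2a_na).mul (m2a_7 s)

theorem m2w_Cz : ∀ a, m2w a ∈ Cz
  | (t, i, none) => mul_mem (x7_Cz t) (pow_mem h2_Cz i)
  | (t, i, some s) => mul_mem (mul_mem (mul_mem (x7_Cz t) (pow_mem h2_Cz i)) na_Cz) (x7_Cz s)

theorem m2w_zero : m2w (0, 0, none) = 1 := by simp [m2w, xr_zero]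

theorem m2_nf {p : P} (h : p ∈ Cz) : ∃ v c a, p = tt v c * m2w a ∧ M2A p (m2f a) := by
  have e : ∀ i : ℕ, h2 ^ i = h2 ^ (⟨i % 3, Nat.mod_lt _ (by decide)⟩ : Fin 3).val := fun i =>
    pow_eq_pow_mod i m2_h3
  suffices ∃ v c a, p = tt v c * m2w a by
    obtain ⟨v, c, a, rfl⟩ := this
    exact ⟨v, c, a, rfl, (m2a_tt v c).mul (m2a_w a)⟩
  obtain ⟨v, c, t, i, rfl | ⟨s, rfl⟩⟩ := cz_nf h
  · exact ⟨v, c, (t, _, none), by rw [e i, m2w, mul_assoc]⟩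
  · exact ⟨v, c, (t, ⟨i % 3, Nat.mod_lt _ (by decide)⟩, some s), by rw [e i, m2w]; simp only [mul_assoc]⟩

theorem m2_triv : ∀ a, m2f a (0, 1, 0, 0) = (0, 1, 0, 0) → m2f a (0, 0, 0, 1) = (0, 0, 0, 1) →
    a = (0, 0, none) := by decide +kernel

theorem m2_T {p : P} (h : p ∈ Cz) {c1 c2 : F} (e1 : p * tt (0, 1, 0, 0) 0 * p⁻¹ = tt (0, 1, 0, 0) c1)
    (e2 : p * tt (0, 0, 0, 1) 0 * p⁻¹ = tt (0, 0, 0, 1) c2) : InT p := by
  obtain ⟨v, c, a, e, A⟩ := m2_nf h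
  rw [m2_triv a (A.fix e1) (A.fix e2), m2w_zero, mul_one] at e
  exact ⟨v, c, e⟩

theorem cz_T {p : P} (h : p ∈ Cz) (e : ∀ v, ∃ c', p * tt v 0 * p⁻¹ = tt v c') : InT p :=
  m2_T h (e _).choose_spec (e _).choose_spec

theorem m2_b4 {v w : V4} {c : F} (e : Commute (tt v c) (tt w 0)) : b4 v w = 0 := by
  have := tt_conj v w c 0
  rw [e.eq, mul_inv_cancel_right, zero_add] at this
  exact (tt_inj this).2.symm

theorem cen_T {p : P} (e : ∀ v, Commute p (tt v 0)) : InZ p := by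
  have h : p ∈ Cz := mem_centralizer_singleton_iff.2 (by
    have := (e (1, 0, 0, 1)).mul_right (e (1, 0, 0, 1))
    rwa [tt_sq] at this)
  obtain ⟨w, d, rfl⟩ := cz_T h fun v => ⟨0, by rw [(e v).eq, mul_inv_cancel_right]⟩
  have k : ∀ w : V4, b4 w (1, 0, 0, 0) = 0 → b4 w (0, 1, 0, 0) = 0 → b4 w (0, 0, 1, 0) = 0 →
      b4 w (0, 0, 0, 1) = 0 → w = 0 := by decide +kernel
  exact ⟨d, by rw [k w (m2_b4 (e _)) (m2_b4 (e _)) (m2_b4 (e _)) (m2_b4 (e _)), tt_Z]⟩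

theorem cen_V {p : P} (h : Commute p (xr 11 1)) (h' : Commute p (xr 10 1)) :
    ∃ (q : P) (i : ℕ), InE q ∧ p = q * h2 ^ i := by
  obtain ⟨v, c, ⟨t, i, s⟩, e, A⟩ := m2_nf (mem_centralizer_singleton_iff.2 h)
  rw [← tt_10] at h'
  have f := A.fix (c := 0) (c' := 0) (by rw [h'.eq, mul_inv_cancel_right])
  have k : ∀ t i s, m2f (t, i, some s) (0, 0, 0, 1) ≠ (0, 0, 0, 1) := by decide +kernel
  rcases s with _ | s
  swap
  · exact absurd f (k t i s)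
  have c1 : Commute (xr 7 t) (tt (0, 0, 0, 1) 0) := mul_inv_eq_iff_eq_mul.1 (by
    rw [x7_tt]; congr 1 <;> simp [ra, ka])
  have c2 : Commute h2 (tt (0, 0, 0, 1) 0) := mul_inv_eq_iff_eq_mul.1 (by
    rw [h2_tt]; congr 1)
  have c3 := h'.mul_left (c1.mul_left (c2.pow_left i.val)).inv_left
  rw [e, m2w, mul_inv_cancel_right] at c3
  have v1 : v.1 = 0 := by simpa [b4] using m2_b4 c3
  refine ⟨tt v c * xr 7 t, i, ?_, by rw [e, m2w, mul_assoc]⟩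
  rw [← uu_zero, ← uu_7, uu_mul]
  exact ⟨_, (ra t v + 0).2.1, (ra t v + 0).2.2.1, (ra t v + 0).2.2.2, _,
    congrArg (fun u => uu _ u _) (Prod.ext (by simp [ra, v1]) rfl)⟩

theorem cen_E {p : P} (e : ∀ q, InE q → Commute p q) : InV p := by
  have k : ∀ b c d, Commute p (tt (0, b, c, d) 0) := fun b c d => e _ ⟨0, b, c, d, 0, (uu_zero _ _).symm⟩
  have h : p ∈ Cz := mem_centralizer_singleton_iff.2 (by
    have := (k 1 1 0).mul_right (k 1 1 0)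
    rwa [tt_sq] at this)
  obtain ⟨w, d, rfl⟩ := m2_T h (c1 := 0) (c2 := 0) (by rw [(k _ _ _).eq, mul_inv_cancel_right])
    (by rw [(k _ _ _).eq, mul_inv_cancel_right])
  have k2 : ∀ w : V4, b4 w (0, 1, 0, 0) = 0 → b4 w (0, 0, 1, 0) = 0 →
      b4 w (0, 0, 0, 1) = 0 → w = (0, 0, 0, w.2.2.2) := by decide +kernel
  exact ⟨_, d, by rw [← k2 w (m2_b4 (k _ _ _)) (m2_b4 (k _ _ _)) (m2_b4 (k _ _ _))]⟩

theorem m2_comm (v w : V4) (c d : F) : tt v c * tt w d * (tt v c)⁻¹ * (tt w d)⁻¹ = xr 11 (b4 v w) := by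
  rw [tt_conj, tt_inv, tt_mul, two4, ← tt_Z]
  congr 1
  have : be w w = q4 w := by simp only [be, q4]; ring
  rw [this]
  linear_combination two d + two (q4 w)

theorem m2_surj : ∀ w : V4, w ≠ 0 → ∀ c, ∃ l : F, b4 (l, 0, 0, 0) w = c ∨ b4 (0, l, 0, 0) w = c ∨
    b4 (0, 0, l, 0) w = c ∨ b4 (0, 0, 0, l) w = c := by decide +kernel

theorem cz_perf : ⁅Cz, Cz⁆ = Cz := by
  have cm : ∀ {g y}, g ∈ Cz → y ∈ Cz → g * y * g⁻¹ * y⁻¹ ∈ ⁅Cz, Cz⁆ := fun hg hy =>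
    commutator_mem_commutator hg hy
  have hZ : ∀ c, xr 11 c ∈ ⁅Cz, Cz⁆ := fun c => by
    have := cm (tt_Cz (c, 0, 0, 0) 0) (tt_Cz (0, 0, 0, 1) 0)
    rw [m2_comm] at this
    simpa [b4] using this
  have h7 : ∀ t, xr 7 t ∈ ⁅Cz, Cz⁆ := fun t => by
    have := cm h2_Cz (x7_Cz (ω * t))
    rw [m2_hx7, xr_inv, ← xr_add,
      (by decide : ∀ t : F, ω * (ω * t) + ω * t = t)] at this
    exact this
  have all : ∀ {v c}, tt v c ∈ ⁅Cz, Cz⁆ → ∀ d, tt v d ∈ ⁅Cz, Cz⁆ := fun {v c} h d => by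
    have := mul_mem h (hZ (c + d))
    rw [← tt_Z, tt_mul, add_zero, ← add_assoc, two, zero_add] at this
    simpa [be] using this
  have mv : ∀ {g f}, g ∈ Cz → M2A g f → ∀ v d, tt (f v + v) d ∈ ⁅Cz, Cz⁆ := fun hg A v => by
    obtain ⟨c, e⟩ := A v 0
    have := cm hg (tt_Cz v 0)
    rw [e, tt_inv, tt_mul] at this
    exact all this
  refine le_antisymm (commutator_le.2 fun _ hg _ hy =>
    mul_mem (mul_mem (mul_mem hg hy) (inv_mem hg)) (inv_mem hy)) (cz_ind _ (fun v => ?_) h7 ?_)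
  · have := mul_mem (mul_mem (mv na_Cz m2a_na (v.1, 0, 0, 0) 0) (mv h2_Cz m2a_h2 (0, ω * v.2.1, ω * ω * v.2.2.1, 0) 0))
      (mv (x7_Cz 1) (m2a_7 1) (0, 0, v.1 + v.2.2.2, 0) 0)
    rw [tt_mul, tt_mul, (by decide +kernel : ∀ v : V4, sw (v.1, 0, 0, 0) + (v.1, 0, 0, 0) +
      (rh (0, ω * v.2.1, ω * ω * v.2.2.1, 0) + (0, ω * v.2.1, ω * ω * v.2.2.1, 0)) +
      (ra 1 (0, 0, v.1 + v.2.2.2, 0) + (0, 0, v.1 + v.2.2.2, 0)) = v)] at this
    exact all this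
  · have := mul_mem (cm na_Cz (x7_Cz 1)) (h7 1)
    rw [inv_mul_cancel_right, m2_n7] at this
    exact mul_mem (mul_mem (h7 1) this) (h7 1)

theorem m2f_inj : ∀ a a', m2f a (0, 1, 0, 0) = m2f a' (0, 1, 0, 0) → m2f a (0, 0, 0, 1) = m2f a' (0, 0, 0, 1) →
    a = a' := by decide +kernel

theorem card_Cz : Nat.card Cz = 61440 := by
  let f : V4 × F × M2I → Cz := fun x => ⟨tt x.1 x.2.1 * m2w x.2.2, mul_mem (tt_Cz _ _) (m2w_Cz _)⟩
  have hf : Function.Bijective f := by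
    refine ⟨?_, fun p => ?_⟩
    · rintro ⟨v, c, a⟩ ⟨v', c', a'⟩ e
      have e1 : tt v c * m2w a = tt v' c' * m2w a' := congrArg Subtype.val e
      have A := (m2a_tt v c).mul (m2a_w a)
      have A' := (m2a_tt v' c').mul (m2a_w a')
      rw [e1] at A
      have k : ∀ u, m2f a u = m2f a' u := fun u => by
        obtain ⟨d, h⟩ := A u 0
        obtain ⟨d', h'⟩ := A' u 0
        exact (tt_inj (h.symm.trans h')).1
      obtain rfl := m2f_inj a a' (k _) (k _)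
      obtain ⟨rfl, rfl⟩ := tt_inj (mul_right_cancel e1)
      rfl
    · obtain ⟨v, c, a, e, -⟩ := m2_nf p.2
      exact ⟨(v, c, a), Subtype.ext e.symm⟩
  rw [← Nat.card_eq_of_bijective f hf]
  simp only [Nat.card_eq_fintype_card, Fintype.card_prod, Fintype.card_option, Fintype.card_fin,
    show Fintype.card F = 4 from rfl]

/-- normal subgroups of `C` -/
theorem cz_nrm (M : Subgroup P) (le : M ≤ Cz) (h : ∀ c ∈ Cz, ∀ m ∈ M, c * m * c⁻¹ ∈ M) :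
    (∀ m ∈ M, InZ m) ∨ ∀ c, xr 11 c ∈ M := by
  have key : ∀ w d, tt w d ∈ M → w ≠ 0 → ∀ c, xr 11 c ∈ M := fun w d hm hw c => by
    have k : ∀ v, xr 11 (b4 v w) ∈ M := fun v => m2_comm v w 0 d ▸ mul_mem (h _ (tt_Cz v 0) _ hm) (inv_mem hm)
    obtain ⟨l, e | e | e | e⟩ := m2_surj w hw c <;> exact e ▸ k _
  refine or_iff_not_imp_left.2 fun hn => ?_
  push Not at hn
  obtain ⟨m, hm, hz⟩ := hn
  by_cases hT : InT m
  · obtain ⟨w, d, rfl⟩ := hT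
    exact key w d hm fun e => hz ⟨d, by rw [e, tt_Z]⟩
  · obtain ⟨-, -, a, -, A⟩ := m2_nf (le hm)
    by_contra hc
    refine hT (cz_T (le hm) fun v => ?_)
    obtain ⟨c, e⟩ := A v 0
    have := mul_mem hm (h _ (tt_Cz v 0) _ (inv_mem hm))
    rw [← mul_assoc, ← mul_assoc, e, tt_inv, tt_mul] at this
    by_cases e0 : m2f a v + v = 0
    · exact ⟨c, by rw [e, eq_neg_of_add_eq_zero_left e0, neg_eq_of_add_eq_zero_left (two4 v)]⟩
    · exact absurd (key _ _ this e0) hc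

def M2F (f : V4 → V4) : Prop := f^[4] (0, 1, 0, 0) = (0, 1, 0, 0) ∧ f^[4] (0, 0, 0, 1) = (0, 0, 0, 1)

instance (f : V4 → V4) : Decidable (M2F f) := inferInstanceAs (Decidable (_ ∧ _))

theorem m2_O2 : ∀ a, M2F (fun v => m2f a (m2f a v)) → M2F (fun v => m2f a (ra 1 (m2f a (ra 1 v)))) →
    M2F (fun v => m2f a (sw (m2f a (sw v)))) → a = (0, 0, none) := by decide +kernel

/-- `T` is characteristic in `C` -/
theorem cz_O2 {p : P} (h : p ∈ Cz) : InT p ↔ ∀ c ∈ Cz, (p * (c * p * c⁻¹)) ^ 4 = 1 := by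
  constructor
  · rintro ⟨v, d, rfl⟩ c hc
    obtain ⟨-, -, a, -, A⟩ := m2_nf hc
    obtain ⟨d', e⟩ := A v d
    rw [e, tt_mul, show 4 = 2 * 2 from rfl, pow_mul, pow_two (tt _ _), tt_sq, pow_two, xr_sq]
  · intro k
    obtain ⟨v, c, a, e, A⟩ := m2_nf h
    have k1 := k 1 (one_mem _)
    have k2 := k _ (x7_Cz 1)
    have k3 := k _ na_Cz
    rw [one_mul, inv_one, mul_one] at k1
    rw [xr_inv] at k2
    rw [inv_eq_of_mul_eq_one_right na_sq] at k3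
    have A1 := (A.mul A).pow 4
    have A2 := (A.mul (((m2a_7 1).mul A).mul (m2a_7 1))).pow 4
    have A3 := (A.mul ((m2a_na.mul A).mul m2a_na)).pow 4
    rw [k1] at A1
    rw [k2] at A2
    rw [k3] at A3
    rw [m2_O2 a ⟨A1.eq _, A1.eq _⟩ ⟨A2.eq _, A2.eq _⟩ ⟨A3.eq _, A3.eq _⟩, m2w_zero, mul_one] at e
    exact ⟨v, c, e⟩

theorem m2_inv : ∀ a, a ≠ (0, 0, none) → m2f a (m2f a (0, 1, 0, 0)) = (0, 1, 0, 0) →
    m2f a (m2f a (0, 0, 0, 1)) = (0, 0, 0, 1) → ∃ a', m2f a (m2f a' (0, 1, 0, 0)) = m2f a' (ra 1 (0, 1, 0, 0)) ∧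
      m2f a (m2f a' (0, 0, 0, 1)) = m2f a' (ra 1 (0, 0, 0, 1)) := by decide +kernel

theorem m2_inv2 : ∀ w : V4, ra 1 w + w = 0 → ∀ d : F, ∃ b c : F,
    ra 1 (w.2.1, b, c, 0) + (w.2.1, b, c, 0) = w ∧ 0 + ka 1 (w.2.1, b, c, 0) + (0 + q4 (w.2.1, b, c, 0)) +
      be (ra 1 (w.2.1, b, c, 0)) (w.2.1, b, c, 0) = d := by decide +kernel

theorem m2_same {p g : P} {f f' : V4 → V4} (hg : g ∈ Cz) (A : M2A p f) (A' : M2A g f') {v : V4}
    (e : f v = f' v) : ∃ c, g⁻¹ * p * tt v 0 * (g⁻¹ * p)⁻¹ = tt v c := by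
  obtain ⟨c, h⟩ := A v 0
  obtain ⟨c', h'⟩ := A' v 0
  have h2 : tt (f v) c = tt (f' v) c' * xr 11 (c + c') := by
    rw [← tt_Z, tt_mul, add_zero, e]
    congr 1
    simp only [be, Prod.fst_zero, Prod.snd_zero, mul_zero, add_zero]
    linear_combination -two c'
  refine ⟨0 + (c + c') + be v 0, ?_⟩
  have h3 := tt_mul v 0 0 (c + c')
  rw [add_zero v] at h3
  rw [← h3, tt_Z]
  calc _ = g⁻¹ * (p * tt v 0 * p⁻¹) * g := by group
    _ = tt v 0 * (g⁻¹ * xr 11 (c + c') * g) := by rw [h, h2, ← h']; group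
    _ = _ := by rw [(Cz_Z (inv_mem hg) _).eq, inv_mul_cancel_right]

theorem cz_inv {p : P} (h : p ∈ Cz) (n : ¬ InT p) (sq : InZ (p * p)) :
    p * p = 1 ∧ ∃ c ∈ Cz, p = c * xr 7 1 * c⁻¹ := by
  suffices ∃ c ∈ Cz, p = c * xr 7 1 * c⁻¹ by
    obtain ⟨c, hc, rfl⟩ := this
    exact ⟨by rw [conj_mul, xr_sq]; group, c, hc, rfl⟩
  obtain ⟨v, c, a, e, A⟩ := m2_nf h
  obtain ⟨c0, e0⟩ := sq
  have A2 := A.mul A
  rw [e0, ← tt_Z] at A2
  have f : ∀ u, m2f a (m2f a u) = u := fun u => A2.fix (tt_conj 0 u c0 0)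
  obtain ⟨a', f1, f2⟩ := m2_inv a (fun e' => n ⟨v, c, by rw [e, e', m2w_zero, mul_one]⟩) (f _) (f _)
  have hg := mul_mem (m2w_Cz a') (x7_Cz 1)
  obtain ⟨c1, g1⟩ := m2_same hg (A.mul (m2a_w a')) ((m2a_w a').mul (m2a_7 1)) f1
  obtain ⟨c2, g2⟩ := m2_same hg (A.mul (m2a_w a')) ((m2a_w a').mul (m2a_7 1)) f2
  obtain ⟨w, d, e1⟩ := m2_T (mul_mem (inv_mem hg) (mul_mem h (m2w_Cz a'))) g1 g2
  have e2 : p = m2w a' * uu 1 w d * (m2w a')⁻¹ := by rw [uu, ← e1]; group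
  have e3 : uu 1 w d * uu 1 w d = uu 0 0 c0 := by
    rw [uu_zero, tt_Z, ← mul_inv_cancel_right (xr 11 c0) (m2w a')⁻¹, ← (Cz_Z (inv_mem (m2w_Cz a')) c0).eq, ← e0, e2]
    group
  rw [uu_mul] at e3
  obtain ⟨b, c', e4, e5⟩ := m2_inv2 w (uu_inj e3).2.1 d
  refine ⟨m2w a' * tt (w.2.1, b, c', 0) 0, mul_mem (m2w_Cz a') (tt_Cz _ _), ?_⟩
  have e6 : uu 1 w d = tt (w.2.1, b, c', 0) 0 * xr 7 1 * (tt (w.2.1, b, c', 0) 0)⁻¹ := by
    have := tt_mul (ra 1 (w.2.1, b, c', 0)) (w.2.1, b, c', 0) (0 + ka 1 (w.2.1, b, c', 0)) (0 + q4 (w.2.1, b, c', 0))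
    rw [e4, e5, ← x7_tt, ← tt_inv] at this
    rw [uu, ← this, ← mul_assoc, ← mul_assoc, ← mul_assoc, xr_sq, one_mul, xr_inv]
  rw [e2, e6]; group

end Cfsg.Agent.LG
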